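import Mathlib
import Groth.Prelude.Def_CAlg
import Groth.Agent.Depth.CM
import Groth.Agent.CAlgSerre.NormalImp
import Groth.Agent.CAlgMisc.TorsionFree
import Groth.Agent.CAlgMisc.SmallA

/-!
Reflexive modules over Noetherian domains; depth of Hom modules.
-/

namespace Groth.Agent.CAlgReflexive

open IsLocalRing LocCoh RingTheory.Sequence
open scoped TensorProduct Pointwise

universe u

section Hom

variable {R : Type u} [CommRing R] {M N : Type u} [AddCommGroup M] [Module R M] [AddCommGroup N] [Module R N]

theorem isSMulRegular_hom {a : R} (h : IsSMulRegular N a) : IsSMulRegular (M →ₗ[R] N) a :=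
  fun f g hfg => LinearMap.ext fun x => h (LinearMap.congr_fun hfg x)

theorem isSMulRegular_quot_hom {a b : R} (ha : IsSMulRegular N a) (hb : IsSMulRegular (QuotSMulTop a N) b) :
    IsSMulRegular (QuotSMulTop a (M →ₗ[R] N)) b := by
  rw [isSMulRegular_iff_right_eq_zero_of_smul]
  intro x hx
  induction x using Submodule.Quotient.induction_on with
  | H f =>
    rw [← Submodule.Quotient.mk_smul, Submodule.Quotient.mk_eq_zero, Submodule.mem_smul_pointwise_iff_exists] at hx
    obtain ⟨g, -, hg⟩ := hx
    have hex : ∀ m, ∃ n, a • n = f m := by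
      intro m
      have h1 : b • (Submodule.Quotient.mk (f m) : QuotSMulTop a N) = 0 := by
        rw [← Submodule.Quotient.mk_smul, Submodule.Quotient.mk_eq_zero, Submodule.mem_smul_pointwise_iff_exists]
        exact ⟨g m, trivial, LinearMap.congr_fun hg m⟩
      have h2 := (isSMulRegular_iff_right_eq_zero_of_smul.1 hb) _ h1
      rw [Submodule.Quotient.mk_eq_zero, Submodule.mem_smul_pointwise_iff_exists] at h2
      obtain ⟨n, -, hn⟩ := h2
      exact ⟨n, hn⟩
    choose u hu using hex
    rw [Submodule.Quotient.mk_eq_zero, Submodule.mem_smul_pointwise_iff_exists]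
    refine ⟨{ toFun := u, map_add' := fun x y => ha ?_, map_smul' := fun c x => ha ?_ }, trivial,
      LinearMap.ext fun m => hu m⟩
    · simp only [smul_add, hu, map_add]
    · simp only [RingHom.id_apply, smul_comm a c, hu, map_smul]

theorem le_depth_hom [IsNoetherianRing R] [IsLocalRing R] [Module.Finite R M] [Module.Finite R N]
    {k : ℕ} (hk : k ≤ 2) (h : (k : ℕ∞) ≤ depth R N) : (k : ℕ∞) ≤ depth R (M →ₗ[R] N) := by
  rcases subsingleton_or_nontrivial (M →ₗ[R] N) with hH | hH
  · rw [depth, Depth.idealDepth_of_subsingleton]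
    exact le_top
  haveI : Nontrivial N := by
    by_contra hN
    rw [not_nontrivial_iff_subsingleton] at hN
    exact not_subsingleton (M →ₗ[R] N) ⟨fun f g => LinearMap.ext fun x => Subsingleton.elim _ _⟩
  obtain ⟨rs, hl, hm, hreg⟩ := (Depth.le_idealDepth_iff_exists Depth.maximalIdeal_smul_top_ne_top).1 h
  refine (Depth.le_idealDepth_iff_exists Depth.maximalIdeal_smul_top_ne_top).2 ⟨rs, hl, hm, ?_⟩
  match rs, hl, hreg with
  | [], _, _ => exact .nil R _
  | [a], _, hreg =>
    rw [isWeaklyRegular_singleton_iff] at hreg ⊢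
    exact isSMulRegular_hom hreg
  | [a, b], _, hreg =>
    rw [isWeaklyRegular_cons_iff, isWeaklyRegular_singleton_iff] at hreg ⊢
    exact ⟨isSMulRegular_hom hreg.1, isSMulRegular_quot_hom hreg.1 hreg.2⟩
  | _ :: _ :: _ :: _, hl, _ => simp at hl; omega

theorem support_hom_subset [Module.Finite R M] : Module.support R (M →ₗ[R] N) ⊆ Module.support R N := by
  intro p hp
  rw [Module.mem_support_iff_exists_annihilator] at hp
  obtain ⟨f, hf⟩ := hp
  obtain ⟨k, v, hv⟩ := Module.Finite.exists_fin (R := R) (M := M)
  by_contra hN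
  rw [Module.mem_support_iff_exists_annihilator] at hN
  push Not at hN
  have : ∀ i, ∃ r ∉ p.asIdeal, r • f (v i) = 0 := fun i => by
    obtain ⟨r, hr, hrp⟩ := SetLike.not_le_iff_exists.1 (hN (f (v i)))
    exact ⟨r, hrp, (Submodule.mem_annihilator_span_singleton _ _).1 hr⟩
  choose r hr hr0 using this
  have hz : (∏ i, r i) • f = 0 := by
    refine LinearMap.ext_on_range hv fun i => ?_
    rw [LinearMap.smul_apply, ← Finset.prod_erase_mul _ _ (Finset.mem_univ i), mul_smul, hr0, smul_zero,
      LinearMap.zero_apply]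
  exact (p.2.prod_mem_iff.1 (hf ((Submodule.mem_annihilator_span_singleton _ _).2 hz))).elim
    fun i hi => hr i hi.2

theorem exists_localized_hom_equiv (S : Submonoid R) [Module.FinitePresentation R M] :
    Nonempty (LocalizedModule S (M →ₗ[R] N) ≃ₗ[Localization S]
      (LocalizedModule S M →ₗ[Localization S] LocalizedModule S N)) :=
  ⟨(IsLocalizedModule.iso S (LocalizedModule.map S (M := M) (N := N))).extendScalarsOfIsLocalization S
    (Localization S)⟩

theorem hasSk_hom [IsNoetherianRing R] [Module.Finite R M] [Module.Finite R N] {k : ℕ} (hk : k ≤ 2)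
    (h : HasSk k R N) : HasSk k R (M →ₗ[R] N) := by
  intro p _
  haveI := Module.finitePresentation_of_finite R M
  haveI : IsNoetherianRing (Localization.AtPrime p) :=
    IsLocalization.isNoetherianRing p.primeCompl _ inferInstance
  obtain ⟨e⟩ := exists_localized_hom_equiv (M := M) (N := N) p.primeCompl
  rw [Module.supportDim_eq_of_equiv e, Depth.depth_congr e]
  rcases subsingleton_or_nontrivial (LocalizedModule p.primeCompl M →ₗ[Localization.AtPrime p]
    LocalizedModule p.primeCompl N) with hH | hH
  · rw [depth, Depth.idealDepth_of_subsingleton]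
    refine (min_le_left _ _).trans ?_
    exact WithBot.coe_le_coe.2 le_top
  haveI hN : Nontrivial (LocalizedModule p.primeCompl N) := by
    by_contra hN
    rw [not_nontrivial_iff_subsingleton] at hN
    exact not_subsingleton (LocalizedModule p.primeCompl M →ₗ[Localization.AtPrime p]
      LocalizedModule p.primeCompl N) ⟨fun f g => LinearMap.ext fun x => Subsingleton.elim _ _⟩
  obtain ⟨d, hd⟩ := Depth.exists_natCast_eq_supportDim (R := Localization.AtPrime p)
    (M := LocalizedModule p.primeCompl N)
  have h1 : Module.supportDim (Localization.AtPrime p) (LocalizedModule p.primeCompl M →ₗ[Localization.AtPrime p]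
      LocalizedModule p.primeCompl N) ≤ ((d : ℕ∞) : WithBot ℕ∞) := by
    refine le_of_le_of_eq (Order.krullDim_le_of_strictMono
      (Set.inclusion support_hom_subset) fun a b hab => hab) ?_
    exact hd
  refine (min_le_min le_rfl h1).trans ?_
  have h2 := h p
  rw [hd] at h2
  have h3 : ((min k d : ℕ) : ℕ∞) ≤ depth (Localization.AtPrime p) (LocalizedModule p.primeCompl N) := by
    rcases le_total k d with hkd | hkd
    · rw [min_eq_left hkd]
      refine WithBot.coe_le_coe.1 (le_trans ?_ h2)
      exact le_min le_rfl (WithBot.coe_le_coe.2 (Nat.cast_le.2 hkd))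
    · rw [min_eq_right hkd]
      refine WithBot.coe_le_coe.1 (le_trans ?_ h2)
      exact le_min (WithBot.coe_le_coe.2 (Nat.cast_le.2 hkd)) le_rfl
  refine le_trans ?_ (WithBot.coe_le_coe.2 (le_depth_hom (M := LocalizedModule p.primeCompl M)
    ((min_le_left k d).trans hk) h3))
  rcases le_total k d with hkd | hkd
  · rw [min_eq_left hkd]; exact min_le_left _ _
  · rw [min_eq_right hkd]; exact min_le_right _ _

theorem hasSk_congr {M' : Type u} [AddCommGroup M'] [Module R M'] (e : M ≃ₗ[R] M') {k : ℕ}
    (h : HasSk k R M) : HasSk k R M' := by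
  intro p _
  have e' := (IsLocalizedModule.mapEquiv p.primeCompl (LocalizedModule.mkLinearMap p.primeCompl M)
    (LocalizedModule.mkLinearMap p.primeCompl M') (Localization.AtPrime p) e)
  rw [← Module.supportDim_eq_of_equiv e', ← Depth.depth_congr e']
  exact h p

end Hom

section Reflexive

variable {R : Type u} [CommRing R] [IsDomain R]

theorem isReflexive_of_exact {M M' M'' : Type u} [AddCommGroup M] [Module R M] [Module.Finite R M]
    [AddCommGroup M'] [Module R M'] [Module.Finite R M'] [AddCommGroup M''] [Module R M''] [Module.Finite R M'']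
    (f : M →ₗ[R] M') (g : M' →ₗ[R] M'') (hf : Function.Injective f) (hfg : Function.Exact f g)
    [Module.IsReflexive R M'] [Module.IsTorsionFree R M''] : Module.IsReflexive R M := by
  have hnat : ∀ x : M, f.dualMap.dualMap (Module.Dual.eval R M x) = Module.Dual.eval R M' (f x) := fun x => rfl
  have hinj : Function.Injective (Module.Dual.eval R M) := fun x y hxy =>
    hf ((Module.bijective_dual_eval R M').1 (by rw [← hnat, ← hnat, hxy]))
  haveI : Module.IsTorsionFree R M := (CAlgMisc.eval_injective_iff R M).1 hinj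
  have hext : ∀ φ : Module.Dual R M, ∃ c : R, c ≠ 0 ∧ ∃ ψ : Module.Dual R M', f.dualMap ψ = c • φ := by
    intro φ
    let K := FractionRing R
    let fK : K ⊗[R] M →ₗ[K] K ⊗[R] M' := LinearMap.baseChange K f
    have hfK : Function.Injective fK := by
      have := Module.Flat.lTensor_preserves_injective_linearMap (M := K) f hf
      exact this
    obtain ⟨h, hh⟩ := fK.exists_leftInverse_of_injective (LinearMap.ker_eq_bot.2 hfK)
    let φK : K ⊗[R] M →ₗ[K] K := (TensorProduct.AlgebraTensorModule.rid R K K).toLinearMap ∘ₗ LinearMap.baseChange K φ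
    let θ : M' →ₗ[R] K := ((φK ∘ₗ h).restrictScalars R) ∘ₗ (TensorProduct.mk R K M' 1)
    have hθ : ∀ x, θ (f x) = algebraMap R K (φ x) := by
      intro x
      show φK (h ((1 : K) ⊗ₜ[R] f x)) = _
      rw [show (1 : K) ⊗ₜ[R] f x = fK ((1 : K) ⊗ₜ[R] x) from rfl, ← LinearMap.comp_apply h, hh]
      simp [φK, Algebra.algebraMap_eq_smul_one]
    obtain ⟨k, v, hv⟩ := Module.Finite.exists_fin (R := R) (M := M')
    obtain ⟨c, hc⟩ := IsLocalization.exist_integer_multiples_of_finite (nonZeroDivisors R) (fun i => θ (v i))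
    have hall : ∀ y, (c : R) • θ y ∈ LinearMap.range (Algebra.linearMap R K) := by
      intro y
      have hy : y ∈ Submodule.span R (Set.range v) := by rw [hv]; trivial
      induction hy using Submodule.span_induction with
      | mem x hx => obtain ⟨l, rfl⟩ := hx; exact hc l
      | zero => simp
      | add a b _ _ ha hb => rw [map_add, smul_add]; exact add_mem ha hb
      | smul r a _ ha => rw [map_smul, smul_comm]; exact Submodule.smul_mem _ r ha
    let e := LinearEquiv.ofInjective (Algebra.linearMap R K) (IsFractionRing.injective R K)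
    refine ⟨c, nonZeroDivisors.ne_zero c.2, e.symm.toLinearMap ∘ₗ ((c : R) • θ).codRestrict _ hall,
      LinearMap.ext fun x => ?_⟩
    apply e.injective
    ext
    simp only [LinearMap.dualMap_apply, LinearMap.comp_apply, LinearEquiv.coe_coe, LinearEquiv.apply_symm_apply]
    show (c : R) • θ (f x) = algebraMap R K ((c : R) • φ x)
    rw [hθ, smul_eq_mul, map_mul, Algebra.smul_def]
  refine ⟨hinj, fun y => ?_⟩
  obtain ⟨m', hm'⟩ := (Module.bijective_dual_eval R M').2 (f.dualMap.dualMap y)
  have hgm : g m' = 0 := by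
    apply (CAlgMisc.eval_injective_iff R M'').2 inferInstance
    rw [map_zero]
    refine LinearMap.ext fun χ => ?_
    have h1 := LinearMap.congr_fun hm' (g.dualMap χ)
    have h2 : f.dualMap (g.dualMap χ) = 0 := LinearMap.ext fun x => by
      simp [(hfg (f x)).2 ⟨x, rfl⟩]
    rw [LinearMap.dualMap_apply, h2, map_zero] at h1
    exact h1
  obtain ⟨m, rfl⟩ := (hfg m').1 hgm
  refine ⟨m, sub_eq_zero.1 (LinearMap.ext fun φ => ?_)⟩
  obtain ⟨c, hc, ψ, hψ⟩ := hext φ
  refine (smul_eq_zero.1 ?_).resolve_left hc
  have h1 : (f.dualMap.dualMap (Module.Dual.eval R M m - y)) ψ = 0 := by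
    rw [map_sub, hnat, hm', sub_self, LinearMap.zero_apply]
  rw [LinearMap.dualMap_apply, hψ, map_smul] at h1
  exact h1

theorem isReflexive_pi (n : ℕ) {N : Type u} [AddCommGroup N] [Module R N] [IsNoetherianRing R] [Module.Finite R N]
    (l : ℕ) (f : N →ₗ[R] (Fin n → R)) (g : (Fin n → R) →ₗ[R] (Fin l → R))
    (hf : Function.Injective f) (hfg : Function.Exact f g) (k : ℕ) : Module.IsReflexive R (Fin k → N) := by
  refine isReflexive_of_exact
    (LinearMap.pi fun i => f.comp (LinearMap.proj i) : (Fin k → N) →ₗ[R] (Fin k → Fin n → R))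
    (LinearMap.pi fun i => g.comp (LinearMap.proj i) : (Fin k → Fin n → R) →ₗ[R] (Fin k → Fin l → R))
    (fun a b hab => funext fun i => hf (congrFun hab i)) fun y => ⟨fun hy => ?_, ?_⟩
  · have : ∀ i, ∃ x, f x = y i := fun i => (hfg (y i)).1 (congrFun hy i)
    choose x hx using this
    exact ⟨x, funext hx⟩
  · rintro ⟨x, rfl⟩
    exact funext fun i => (hfg _).2 ⟨x i, rfl⟩

variable [IsNoetherianRing R]

theorem exists_injective_torsionFree_coker (M : Type u) [AddCommGroup M] [Module R M] [Module.Finite R M]
    [Module.IsReflexive R M] : ∃ (n : ℕ) (f : M →ₗ[R] (Fin n → R)), Function.Injective f ∧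
      Module.IsTorsionFree R ((Fin n → R) ⧸ LinearMap.range f) := by
  haveI : Module.Finite R (Module.Dual R M) := inferInstance
  obtain ⟨n, π, hπ⟩ := Module.Finite.exists_fin' R (Module.Dual R M)
  let F : M →ₗ[R] (Fin n → R) := LinearMap.pi fun i => π (Pi.single i 1)
  have hF : ∀ (x : M) (a : Fin n → R), ∑ i, a i * F x i = π a x := by
    intro x a
    conv_rhs => rw [pi_eq_sum_univ' a]
    simp [map_sum, F, LinearMap.sum_apply]
  refine ⟨n, F, ?_, ?_⟩
  · refine fun x y hxy => (Module.bijective_dual_eval R M).1 (LinearMap.ext fun φ => ?_)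
    obtain ⟨a, rfl⟩ := hπ φ
    rw [Module.Dual.eval_apply, Module.Dual.eval_apply, ← hF, ← hF, hxy]
  · refine ⟨fun r hr x y hxy => ?_⟩
    obtain ⟨v, rfl⟩ := Submodule.Quotient.mk_surjective _ x
    obtain ⟨w, rfl⟩ := Submodule.Quotient.mk_surjective _ y
    rw [← sub_eq_zero, ← Submodule.Quotient.mk_sub, Submodule.Quotient.mk_eq_zero]
    simp only [← Submodule.Quotient.mk_smul] at hxy
    rw [Submodule.Quotient.eq, ← smul_sub] at hxy
    obtain ⟨m, hm⟩ := hxy
    let L : (Fin n → R) →ₗ[R] R := ∑ i, (v - w) i • LinearMap.proj i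
    have hL : ∀ a : Fin n → R, r * L a = π a m := by
      intro a
      rw [← hF, show L a = ∑ i, (v - w) i * a i by simp [L, LinearMap.sum_apply], Finset.mul_sum]
      refine Finset.sum_congr rfl fun i _ => ?_
      rw [hm, Pi.smul_apply, smul_eq_mul]
      ring
    have hk : LinearMap.ker π ≤ LinearMap.ker L := fun a ha => by
      rw [LinearMap.mem_ker] at ha ⊢
      have := hL a
      rw [ha, LinearMap.zero_apply] at this
      exact (mul_eq_zero.1 this).resolve_left hr.ne_zero
    let Y : Module.Dual R (Module.Dual R M) :=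
      (Submodule.liftQ _ L hk) ∘ₗ (π.quotKerEquivOfSurjective hπ).symm.toLinearMap
    obtain ⟨m', hm'⟩ := (Module.bijective_dual_eval R M).2 Y
    refine ⟨m', funext fun i => ?_⟩
    have h1 := LinearMap.congr_fun hm' (π (Pi.single i 1))
    have h2 : (π.quotKerEquivOfSurjective hπ).symm (π (Pi.single i 1)) = Submodule.Quotient.mk (Pi.single i 1) := by
      rw [LinearEquiv.symm_apply_eq]; rfl
    simp only [Module.Dual.eval_apply, Y, LinearMap.comp_apply, LinearEquiv.coe_coe, h2, Submodule.liftQ_apply] at h1
    refine h1.trans ?_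
    simp [L, LinearMap.sum_apply, Pi.single_apply]

theorem isReflexive_iff_coker (M : Type u) [AddCommGroup M] [Module R M] [Module.Finite R M] :
    Module.IsReflexive R M ↔ ∃ (n : ℕ) (f : M →ₗ[R] (Fin n → R)), Function.Injective f ∧
      Module.IsTorsionFree R ((Fin n → R) ⧸ LinearMap.range f) := by
  refine ⟨fun _ => exists_injective_torsionFree_coker M, ?_⟩
  rintro ⟨n, f, hf, _⟩
  exact isReflexive_of_exact f (LinearMap.range f).mkQ hf (LinearMap.exact_map_mkQ_range f)

/-- A finite reflexive module is the kernel of a map of finite free modules. -/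
theorem exists_free_exact (M : Type u) [AddCommGroup M] [Module R M] [Module.Finite R M]
    [Module.IsReflexive R M] : ∃ (n l : ℕ) (f : M →ₗ[R] (Fin n → R)) (g : (Fin n → R) →ₗ[R] (Fin l → R)),
      Function.Injective f ∧ Function.Exact f g := by
  obtain ⟨n, f, hf, _⟩ := exists_injective_torsionFree_coker (R := R) M
  obtain ⟨l, h, hh⟩ := CAlgMisc.exists_injective_of_isTorsionFree R ((Fin n → R) ⧸ LinearMap.range f)
  refine ⟨n, l, f, h.comp (LinearMap.range f).mkQ, hf, fun y => ?_⟩
  rw [LinearMap.comp_apply, map_eq_zero_iff h hh]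
  exact LinearMap.exact_map_mkQ_range f y

theorem isReflexive_hom (M N : Type u) [AddCommGroup M] [Module R M] [Module.Finite R M]
    [AddCommGroup N] [Module R N] [Module.Finite R N] [Module.IsReflexive R N] :
    Module.IsReflexive R (M →ₗ[R] N) := by
  obtain ⟨n, l, f, g, hf, hfg⟩ := exists_free_exact (R := R) N
  obtain ⟨k, π, hπ⟩ := Module.Finite.exists_fin' R M
  obtain ⟨m, A, hA⟩ := Submodule.fg_iff_exists_fin_generating_family.1
    (IsNoetherian.noetherian (LinearMap.ker π))
  haveI := isReflexive_pi n l f g hf hfg k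
  haveI : Module.IsTorsionFree R (Fin m → N) := by
    haveI := isReflexive_pi n l f g hf hfg m
    infer_instance
  let Φ : (M →ₗ[R] N) →ₗ[R] (Fin k → N) := LinearMap.pi fun i => LinearMap.applyₗ (π (Pi.single i 1))
  let Ψ : (Fin k → N) →ₗ[R] (Fin m → N) :=
    LinearMap.pi fun j => ∑ i, A j i • LinearMap.proj i
  have hΨ : ∀ v j, Ψ v j = ∑ i, A j i • v i := fun v j => by simp [Ψ, LinearMap.sum_apply]
  have hΦ : ∀ φ i, Φ φ i = φ (π (Pi.single i 1)) := fun φ i => rfl
  have hexp : ∀ (φ : M →ₗ[R] N) (a : Fin k → R), φ (π a) = ∑ i, a i • Φ φ i := by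
    intro φ a
    conv_lhs => rw [pi_eq_sum_univ' a]
    simp [map_sum, hΦ]
  refine isReflexive_of_exact Φ Ψ ?_ ?_
  · refine fun a b hab => LinearMap.ext fun x => ?_
    obtain ⟨v, rfl⟩ := hπ x
    rw [hexp, hexp, hab]
  · intro v
    constructor
    · intro hv
      let E : (Fin k → R) →ₗ[R] N := ∑ i, (LinearMap.proj i).smulRight (v i)
      have hE : ∀ a, E a = ∑ i, a i • v i := fun a => by simp [E, LinearMap.sum_apply]
      have hk : LinearMap.ker π ≤ LinearMap.ker E := by
        rw [← hA, Submodule.span_le]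
        rintro _ ⟨j, rfl⟩
        rw [SetLike.mem_coe, LinearMap.mem_ker, hE, ← hΨ, hv]
        rfl
      refine ⟨(Submodule.liftQ _ E hk) ∘ₗ (π.quotKerEquivOfSurjective hπ).symm.toLinearMap, funext fun i => ?_⟩
      have h2 : (π.quotKerEquivOfSurjective hπ).symm (π (Pi.single i 1)) = Submodule.Quotient.mk (Pi.single i 1) := by
        rw [LinearEquiv.symm_apply_eq]; rfl
      rw [hΦ, LinearMap.comp_apply, LinearEquiv.coe_coe, h2, Submodule.liftQ_apply, hE]
      simp [Pi.single_apply, ite_smul]
    · rintro ⟨φ, rfl⟩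
      funext j
      rw [hΨ, ← hexp, LinearMap.mem_ker.1 (show A j ∈ LinearMap.ker π by rw [← hA]; exact Submodule.subset_span ⟨j, rfl⟩), map_zero]
      rfl

theorem isReflexive_baseChange {R' : Type u} [CommRing R'] [IsDomain R'] [IsNoetherianRing R'] [Algebra R R']
    [Module.Flat R R'] (M : Type u) [AddCommGroup M] [Module R M] [Module.Finite R M] [Module.IsReflexive R M] :
    Module.IsReflexive R' (R' ⊗[R] M) := by
  obtain ⟨n, l, f, g, hf, hfg⟩ := exists_free_exact (R := R) M
  exact isReflexive_of_exact (f.baseChange R') (g.baseChange R')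
    (Module.Flat.lTensor_preserves_injective_linearMap f hf) (Module.Flat.lTensor_exact R' hfg)

theorem isReflexive_localized (S : Submonoid R) (hS : S ≤ nonZeroDivisors R) (M : Type u) [AddCommGroup M] [Module R M]
    [Module.Finite R M] [Module.IsReflexive R M] :
    Module.IsReflexive (Localization S) (LocalizedModule S M) := by
  haveI : IsDomain (Localization S) := IsLocalization.isDomain_localization hS
  haveI : IsNoetherianRing (Localization S) := IsLocalization.isNoetherianRing S _ inferInstance
  haveI : Module.Flat R (Localization S) := IsLocalization.flat (Localization S) S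
  haveI := isReflexive_baseChange (R := R) (R' := Localization S) M
  exact Module.equiv (LocalizedModule.equivTensorProduct S M).symm

variable {M : Type u} [AddCommGroup M] [Module R M] [Module.Finite R M]

/-- Elementwise criterion for reflexivity. -/
theorem isReflexive_iff_forall_dvd [Module.IsTorsionFree R M] :
    Module.IsReflexive R M ↔ ∀ (c : R) (x : M), c ≠ 0 →
      (∀ φ : Module.Dual R M, c ∣ φ x) → ∃ z : M, c • z = x := by
  constructor
  · intro _ c x hc h
    choose q hq using h
    let y : Module.Dual R (Module.Dual R M) :=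
      { toFun := q
        map_add' := fun φ ψ => mul_left_cancel₀ hc (by rw [mul_add, ← hq, ← hq, ← hq]; rfl)
        map_smul' := fun r φ => mul_left_cancel₀ hc (by
          rw [RingHom.id_apply, smul_eq_mul, mul_left_comm, ← hq, ← hq]; rfl) }
    obtain ⟨z, hz⟩ := (Module.bijective_dual_eval R M).2 y
    refine ⟨z, (CAlgMisc.eval_injective_iff R M).2 inferInstance (LinearMap.ext fun φ => ?_)⟩
    have h1 := LinearMap.congr_fun hz φ
    rw [Module.Dual.eval_apply] at h1
    rw [map_smul, LinearMap.smul_apply, Module.Dual.eval_apply, Module.Dual.eval_apply, h1, smul_eq_mul]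
    exact (hq φ).symm
  · intro h
    refine ⟨(CAlgMisc.eval_injective_iff R M).2 inferInstance, fun y => ?_⟩
    obtain ⟨c, hc, -, hsurj⟩ := CAlgMisc.exists_smul_eval_dual R M
    obtain ⟨x, hx⟩ := hsurj y
    obtain ⟨z, rfl⟩ := h c x hc fun φ => ⟨y φ, by
      have := LinearMap.congr_fun hx φ
      rwa [Module.Dual.eval_apply, LinearMap.smul_apply, smul_eq_mul] at this⟩
    refine ⟨z, ?_⟩
    rw [map_smul] at hx
    exact smul_right_injective _ hc hx

theorem dvd_localized (p : Ideal R) [p.IsPrime] {c : R} {x : M} (h : ∀ φ : Module.Dual R M, c ∣ φ x)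
    (ψ : Module.Dual (Localization.AtPrime p) (LocalizedModule p.primeCompl M)) :
    algebraMap R (Localization.AtPrime p) c ∣ ψ (LocalizedModule.mkLinearMap p.primeCompl M x) := by
  set A := Localization.AtPrime p
  let θ : M →ₗ[R] A := (ψ.restrictScalars R) ∘ₗ (LocalizedModule.mkLinearMap p.primeCompl M)
  obtain ⟨k, v, hv⟩ := Module.Finite.exists_fin (R := R) (M := M)
  obtain ⟨s, hs⟩ := IsLocalization.exist_integer_multiples_of_finite p.primeCompl (fun i => θ (v i))
  have hall : ∀ y, (s : R) • θ y ∈ LinearMap.range (Algebra.linearMap R A) := by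
    intro y
    have hy : y ∈ Submodule.span R (Set.range v) := by rw [hv]; trivial
    induction hy using Submodule.span_induction with
    | mem x hx => obtain ⟨l, rfl⟩ := hx; exact hs l
    | zero => simp
    | add a b _ _ ha hb => rw [map_add, smul_add]; exact add_mem ha hb
    | smul r a _ ha => rw [map_smul, smul_comm]; exact Submodule.smul_mem _ r ha
  let e := LinearEquiv.ofInjective (Algebra.linearMap R A)
    (IsLocalization.injective A p.primeCompl_le_nonZeroDivisors)
  obtain ⟨q, hq⟩ := h (e.symm.toLinearMap ∘ₗ ((s : R) • θ).codRestrict _ hall)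
  have h1 : ((s : R) • θ x : A) = algebraMap R A (c * q) := by
    rw [← hq]
    exact (congrArg Subtype.val (e.apply_symm_apply ⟨_, hall x⟩)).symm
  show _ ∣ θ x
  rw [← (IsLocalization.map_units A s).dvd_mul_left, ← Algebra.smul_def, h1, map_mul]
  exact dvd_mul_right _ _

theorem exists_notMem_of_isReflexive_localized (p : Ideal R) [p.IsPrime]
    [Module.IsReflexive (Localization.AtPrime p) (LocalizedModule p.primeCompl M)]
    {c : R} {x : M} (hc : c ≠ 0) (h : ∀ φ : Module.Dual R M, c ∣ φ x) :
    ∃ s ∉ p, ∃ z : M, c • z = s • x := by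
  haveI : IsNoetherianRing (Localization.AtPrime p) :=
    IsLocalization.isNoetherianRing p.primeCompl _ inferInstance
  have hc' : algebraMap R (Localization.AtPrime p) c ≠ 0 := fun h0 =>
    hc (IsLocalization.injective _ p.primeCompl_le_nonZeroDivisors (h0.trans (map_zero _).symm))
  obtain ⟨w, hw⟩ := (isReflexive_iff_forall_dvd (R := Localization.AtPrime p)).1 inferInstance _
    (LocalizedModule.mkLinearMap p.primeCompl M x) hc' (dvd_localized p h)
  induction w using LocalizedModule.induction_on with
  | h z t =>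
    rw [algebraMap_smul, LocalizedModule.mkLinearMap_apply, LocalizedModule.smul'_mk, LocalizedModule.mk_eq] at hw
    obtain ⟨u, hu⟩ := hw
    simp only [one_smul, Submonoid.smul_def] at hu
    exact ⟨(u : R) * t, (u * t : p.primeCompl).2, (u : R) • z, by rw [smul_comm c, hu, mul_smul]⟩

theorem not_mem_associatedPrimes_of_ne_bot {p : Ideal R} [p.IsPrime] (hp : p ≠ ⊥)
    [Module.IsTorsionFree (Localization.AtPrime p) (LocalizedModule p.primeCompl M)] :
    p ∉ associatedPrimes R M := by
  intro hass
  obtain ⟨-, x, hx⟩ := isAssociatedPrime_iff.1 hass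
  obtain ⟨r, hr, hr0⟩ := Submodule.exists_mem_ne_zero_of_ne_bot hp
  have hrx : r • x = 0 := by
    rw [hx, Submodule.mem_colon_singleton, Submodule.mem_bot] at hr; exact hr
  have h0 : LocalizedModule.mkLinearMap p.primeCompl M x = 0 := by
    have h1 : algebraMap R (Localization.AtPrime p) r • LocalizedModule.mkLinearMap p.primeCompl M x = 0 := by
      rw [algebraMap_smul, ← map_smul, hrx, map_zero]
    refine (smul_eq_zero.1 h1).resolve_left fun h0 => hr0 ?_
    exact IsLocalization.injective _ p.primeCompl_le_nonZeroDivisors (h0.trans (map_zero _).symm)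
  obtain ⟨s, hs⟩ := (IsLocalizedModule.eq_zero_iff p.primeCompl (LocalizedModule.mkLinearMap p.primeCompl M)).1 h0
  refine s.2 ?_
  refine (SetLike.ext_iff.1 hx (s : R)).2 ?_
  rw [Submodule.mem_colon_singleton, Submodule.mem_bot]
  exact hs

theorem isTorsionFree_of_forall (h : ∀ p ∈ associatedPrimes R M, p = ⊥) : Module.IsTorsionFree R M := by
  refine ⟨fun r hr x y hxy => ?_⟩
  by_contra hne
  have hmem : r ∈ ⋃ p ∈ associatedPrimes R M, (p : Set R) := by
    rw [biUnion_associatedPrimes_eq_zero_divisors]
    exact ⟨x - y, sub_ne_zero.2 hne, by rw [smul_sub]; exact sub_eq_zero.2 hxy⟩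
  obtain ⟨p, hp, hrp⟩ := Set.mem_iUnion₂.1 hmem
  rw [h p hp] at hrp
  exact hr.ne_zero hrp

theorem one_le_depth_of_two_le {L : Type u} [CommRing L] [IsLocalRing L] {N : Type u} [AddCommGroup N] [Module L N]
    (h : 2 ≤ depth L N) : depth L N ≠ 0 := fun h0 => by
  rw [h0] at h
  exact absurd h (by simp)

theorem isReflexive_iff_localization_or_depth :
    Module.IsReflexive R M ↔ ∀ (p : Ideal R) [p.IsPrime],
      Module.IsReflexive (Localization.AtPrime p) (LocalizedModule p.primeCompl M) ∨
        2 ≤ depth (Localization.AtPrime p) (LocalizedModule p.primeCompl M) := by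
  refine ⟨fun _ p _ => Or.inl (isReflexive_localized p.primeCompl p.primeCompl_le_nonZeroDivisors M), fun h => ?_⟩
  haveI : Module.IsTorsionFree R M := by
    refine isTorsionFree_of_forall fun p hp => ?_
    by_contra hne
    haveI := hp.isPrime
    haveI : Nontrivial (LocalizedModule p.primeCompl M) :=
      Module.mem_support_iff.1 (Depth.mem_support_of_mem_associatedPrimes hp : (⟨p, inferInstance⟩ : PrimeSpectrum R) ∈ _)
    haveI : IsNoetherianRing (Localization.AtPrime p) :=
      IsLocalization.isNoetherianRing p.primeCompl _ inferInstance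
    rcases h p with hr | hd
    · exact not_mem_associatedPrimes_of_ne_bot hne hp
    · exact one_le_depth_of_two_le hd ((CAlgSerre.depth_eq_zero_iff p).2 hp)
  rw [isReflexive_iff_forall_dvd]
  intro c x hc hx
  by_contra hne
  push Not at hne
  have hx0 : (Submodule.Quotient.mk x : QuotSMulTop c M) ≠ 0 := by
    rw [ne_eq, Submodule.Quotient.mk_eq_zero, Submodule.mem_smul_pointwise_iff_exists]
    rintro ⟨z, -, hz⟩
    exact hne z hz
  obtain ⟨p, hp, hle⟩ := exists_le_isAssociatedPrime_of_isNoetherianRing R _ hx0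
  haveI := hp.isPrime
  have hcolon : ∀ r, (∃ z : M, c • z = r • x) → r ∈ p := fun r ⟨z, hz⟩ => hle (by
    rw [Submodule.mem_colon_singleton, Submodule.mem_bot, ← Submodule.Quotient.mk_smul,
      Submodule.Quotient.mk_eq_zero, Submodule.mem_smul_pointwise_iff_exists]
    exact ⟨z, trivial, hz⟩)
  rcases h p with hr | hd
  · obtain ⟨s, hs, hz⟩ := exists_notMem_of_isReflexive_localized p hc hx
    exact hs (hcolon s hz)
  · haveI : Nontrivial (LocalizedModule p.primeCompl (QuotSMulTop c M)) :=
      Module.mem_support_iff.1 (Depth.mem_support_of_mem_associatedPrimes hp : (⟨p, inferInstance⟩ : PrimeSpectrum R) ∈ _)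
    haveI : IsNoetherianRing (Localization.AtPrime p) :=
      IsLocalization.isNoetherianRing p.primeCompl _ inferInstance
    have h1 := Depth.depth_localized_quotSMulTop_add_one (M := M) p (hcolon c ⟨x, rfl⟩) (smul_right_injective M hc)
    rw [(CAlgSerre.depth_eq_zero_iff (M := QuotSMulTop c M) p).2 hp] at h1
    rw [← h1] at hd
    exact absurd hd (by simp)

theorem isReflexive_iff_localization_maximal :
    Module.IsReflexive R M ↔ ∀ (m : Ideal R) (_ : m.IsMaximal),
      Module.IsReflexive (Localization.AtPrime m) (LocalizedModule m.primeCompl M) := by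
  refine ⟨fun _ m _ => isReflexive_localized m.primeCompl m.primeCompl_le_nonZeroDivisors M, fun h => ?_⟩
  haveI : Module.IsTorsionFree R M := by
    refine ⟨fun r hr x y hxy => ?_⟩
    by_contra hne
    obtain ⟨m, hm, hle⟩ := Ideal.exists_le_maximal (Submodule.span R {x - y}).annihilator (fun htop => hne (by
      have h1 := (Submodule.mem_annihilator_span_singleton _ _).1 (htop ▸ Submodule.mem_top : (1 : R) ∈ _)
      rwa [one_smul, sub_eq_zero] at h1))
    haveI := h m hm
    have h1 : algebraMap R (Localization.AtPrime m) r • LocalizedModule.mkLinearMap m.primeCompl M (x - y) = 0 := by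
      rw [algebraMap_smul, ← map_smul, smul_sub, sub_eq_zero.2 hxy, map_zero]
    have h0 := (smul_eq_zero.1 h1).resolve_left fun h0 => hr.ne_zero
      (IsLocalization.injective _ m.primeCompl_le_nonZeroDivisors (h0.trans (map_zero _).symm))
    obtain ⟨s, hs⟩ := (IsLocalizedModule.eq_zero_iff m.primeCompl _).1 h0
    exact s.2 (hle ((Submodule.mem_annihilator_span_singleton _ _).2 hs))
  rw [isReflexive_iff_forall_dvd]
  intro c x hc hx
  let I : Ideal R :=
    (LinearMap.range (c • LinearMap.id : M →ₗ[R] M)).comap (LinearMap.toSpanSingleton R M x)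
  have hI : ∀ s, s ∈ I ↔ ∃ z, c • z = s • x := fun s => by simp [I, LinearMap.mem_range]
  suffices h1 : (1 : R) ∈ I by simpa using (hI 1).1 h1
  by_contra h1
  obtain ⟨m, hm, hle⟩ := Ideal.exists_le_maximal I (fun ht => h1 (ht ▸ Submodule.mem_top))
  haveI := h m hm
  obtain ⟨s, hs, hz⟩ := exists_notMem_of_isReflexive_localized m hc hx
  exact hs (hle ((hI s).2 hz))

theorem hasSk_two_of_isReflexive [Module.IsReflexive R M] (h : HasSk 2 R R) : HasSk 2 R M :=
  hasSk_congr (Module.evalEquiv R M).symm (hasSk_hom le_rfl h)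

theorem two_le_depth_of_isReflexive [Module.IsReflexive R M] (p : Ideal R) [p.IsPrime]
    (h : 2 ≤ depth (Localization.AtPrime p) (Localization.AtPrime p)) :
    2 ≤ depth (Localization.AtPrime p) (LocalizedModule p.primeCompl M) := by
  haveI : IsNoetherianRing (Localization.AtPrime p) :=
    IsLocalization.isNoetherianRing p.primeCompl _ inferInstance
  haveI := isReflexive_localized p.primeCompl p.primeCompl_le_nonZeroDivisors M
  rw [Depth.depth_congr (Module.evalEquiv (Localization.AtPrime p) (LocalizedModule p.primeCompl M))]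
  exact le_depth_hom (k := 2) le_rfl h

theorem isPrincipalIdealRing_of_normal_dim_le_one (L : Type u) [CommRing L] [IsDomain L] [IsLocalRing L]
    [IsNoetherianRing L] [IsIntegrallyClosed L] (h : ringKrullDim L ≤ 1) : IsPrincipalIdealRing L := by
  haveI : Ring.KrullDimLE 1 L := (Ring.krullDimLE_iff (n := 1)).2 (by exact_mod_cast h)
  haveI : Ring.DimensionLEOne L := ⟨fun {q} hq0 hq => ((Ring.krullDimLE_one_iff_of_isPrime_bot.1 ‹_›) q hq0 hq)⟩
  by_cases hf : IsField L
  · letI := hf.toField; infer_instance
  · haveI : IsDedekindDomain L := { }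
    have hd : IsDiscreteValuationRing L := ((IsDiscreteValuationRing.TFAE L hf).out 2 0).1 ‹IsDedekindDomain L›
    exact hd.toIsPrincipalIdealRing

theorem isReflexive_localized_of_height_le_one [IsIntegrallyClosed R] [Module.IsTorsionFree R M]
    (p : Ideal R) [p.IsPrime] (hp : p.height ≤ 1) :
    Module.IsReflexive (Localization.AtPrime p) (LocalizedModule p.primeCompl M) := by
  haveI : IsNoetherianRing (Localization.AtPrime p) :=
    IsLocalization.isNoetherianRing p.primeCompl _ inferInstance
  haveI : IsIntegrallyClosed (Localization.AtPrime p) :=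
    isIntegrallyClosed_of_isLocalization _ p.primeCompl p.primeCompl_le_nonZeroDivisors
  have hdim : ringKrullDim (Localization.AtPrime p) ≤ 1 := by
    rw [IsLocalization.AtPrime.ringKrullDim_eq_height p]; exact_mod_cast hp
  haveI : IsPrincipalIdealRing (Localization.AtPrime p) := isPrincipalIdealRing_of_normal_dim_le_one _ hdim
  haveI : Module.IsTorsionFree (Localization.AtPrime p) (LocalizedModule p.primeCompl M) := by
    refine ⟨fun a ha x y hxy => sub_eq_zero.1 ?_⟩
    have hz : a • (x - y) = 0 := by rw [smul_sub]; exact sub_eq_zero.2 hxy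
    generalize x - y = z at hz ⊢
    induction z using LocalizedModule.induction_on with
    | h m t =>
      obtain ⟨r, u, rfl⟩ := IsLocalization.exists_mk'_eq p.primeCompl a
      rw [← Localization.mk_eq_mk', LocalizedModule.mk_smul_mk, ← LocalizedModule.zero_mk (1 : p.primeCompl),
        LocalizedModule.mk_eq] at hz
      obtain ⟨v, hv⟩ := hz
      simp only [one_smul, smul_zero, Submonoid.smul_def] at hv
      have hr : r ≠ 0 := fun h0 => ha.ne_zero (by rw [h0, IsLocalization.mk'_zero])
      have : m = 0 := (smul_eq_zero.1 ((smul_eq_zero.1 hv).resolve_left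
        fun h0 => v.2 (by rw [h0]; exact zero_mem _))).resolve_left hr
      rw [this, LocalizedModule.zero_mk]
  infer_instance

end Reflexive

end Groth.Agent.CAlgReflexive
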