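import Groth.Agent.CAlgReflexive.Basic

/-!
Reflexive modules over normal Noetherian domains.
-/

namespace Groth.Agent.CAlgReflexive

open IsLocalRing LocCoh
open scoped TensorProduct

universe u

theorem normal_S2 {R : Type u} [CommRing R] [IsDomain R] [IsNoetherianRing R] [IsIntegrallyClosed R] :
    HasSk 2 R R := by
  have hn : ∀ (p : Ideal R) [p.IsPrime], IsDomain (Localization.AtPrime p) ∧
      IsIntegrallyClosed (Localization.AtPrime p) := fun p _ => ⟨inferInstance,
    isIntegrallyClosed_of_isLocalization _ p.primeCompl p.primeCompl_le_nonZeroDivisors⟩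
  exact (CAlgSerre.normal_iff.1 hn).2

theorem isReflexive_iff_S2 {R M : Type u} [CommRing R] [IsDomain R] [IsNoetherianRing R]
    [IsIntegrallyClosed R] [AddCommGroup M] [Module R M] [Module.Finite R M] :
    Module.IsReflexive R M ↔ Module.IsTorsionFree R M ∧ HasSk 2 R M := by
  refine ⟨fun _ => ⟨inferInstance, hasSk_two_of_isReflexive normal_S2⟩, fun ⟨_, h2⟩ => ?_⟩
  rw [isReflexive_iff_localization_or_depth]
  intro p _
  rcases le_or_gt p.height 1 with hp | hp
  · exact Or.inl (isReflexive_localized_of_height_le_one p hp)
  · refine Or.inr ?_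
    haveI : IsNoetherianRing (Localization.AtPrime p) :=
      IsLocalization.isNoetherianRing p.primeCompl _ inferInstance
    rcases subsingleton_or_nontrivial (LocalizedModule p.primeCompl M) with hs | hn
    · rw [depth, Depth.idealDepth_of_subsingleton]; exact le_top
    have h := h2 p
    obtain ⟨n, f, hf⟩ := CAlgMisc.exists_injective_of_isTorsionFree R M
    haveI : Nontrivial M := by
      by_contra hM
      rw [not_nontrivial_iff_subsingleton] at hM
      exact not_subsingleton (LocalizedModule p.primeCompl M) ⟨fun a b => by
        induction a using LocalizedModule.induction_on with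
        | h x s => induction b using LocalizedModule.induction_on with
          | h y t => rw [LocalizedModule.mk_eq]; exact ⟨1, Subsingleton.elim _ _⟩⟩
    have hann : Module.annihilator R M = ⊥ := by
      rw [eq_bot_iff]
      intro r hr
      obtain ⟨x, hx⟩ := exists_ne (0 : M)
      exact (smul_eq_zero.1 (Module.mem_annihilator.1 hr x)).resolve_right hx
    have hloc : Module.annihilator (Localization.AtPrime p) (LocalizedModule p.primeCompl M) = ⊥ := by
      rw [eq_bot_iff]
      intro a ha
      obtain ⟨r, u, rfl⟩ := IsLocalization.exists_mk'_eq p.primeCompl a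
      obtain ⟨x, hx⟩ := exists_ne (0 : M)
      have h1 := Module.mem_annihilator.1 ha (LocalizedModule.mk x 1)
      rw [← Localization.mk_eq_mk', LocalizedModule.mk_smul_mk, ← LocalizedModule.zero_mk (1 : p.primeCompl),
        LocalizedModule.mk_eq] at h1
      obtain ⟨v, hv⟩ := h1
      simp only [one_smul, smul_zero, Submonoid.smul_def] at hv
      have hr : r = 0 := (smul_eq_zero.1 ((smul_eq_zero.1 hv).resolve_left
        fun h0 => v.2 (by rw [h0]; exact zero_mem _))).resolve_right hx
      rw [hr, IsLocalization.mk'_zero]
      exact zero_mem _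
    have hdim : Module.supportDim (Localization.AtPrime p) (LocalizedModule p.primeCompl M) = p.height := by
      rw [Module.supportDim_eq_ringKrullDim_quotient_annihilator, hloc,
        ringKrullDim_eq_of_ringEquiv (RingEquiv.quotientBot _),
        IsLocalization.AtPrime.ringKrullDim_eq_height p]
    rw [hdim] at h
    have h22 : ((2 : ℕ∞) : WithBot ℕ∞) ≤ min ((2 : ℕ) : WithBot ℕ∞) (p.height : WithBot ℕ∞) :=
      le_min le_rfl (WithBot.coe_le_coe.2 (Order.add_one_le_of_lt hp))
    exact WithBot.coe_le_coe.1 (h22.trans h)

theorem isReflexive_integralClosure (A K L : Type u) [CommRing A] [IsDomain A] [IsNoetherianRing A]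
    [IsIntegrallyClosed A] [Field K] [Algebra A K] [IsFractionRing A K] [Field L] [Algebra K L]
    [FiniteDimensional K L] [Algebra A L] [IsScalarTower A K L] [Module.Finite A ↥(integralClosure A L)] :
    Module.IsReflexive A ↥(integralClosure A L) := by
  haveI : Module.IsTorsionFree A ↥(integralClosure A L) := by
    refine ⟨fun r hr x y hxy => Subtype.ext ?_⟩
    have h1 : r • (x : L) = r • (y : L) := congrArg Subtype.val hxy
    rw [Algebra.smul_def, Algebra.smul_def] at h1
    refine mul_left_cancel₀ ?_ h1
    rw [IsScalarTower.algebraMap_apply A K L]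
    exact fun h0 => hr.ne_zero (IsFractionRing.injective A K
      (((algebraMap K L).injective (h0.trans (map_zero _).symm)).trans (map_zero _).symm))
  rw [isReflexive_iff_forall_dvd]
  intro c x hc hx
  have hcK : algebraMap A K c ≠ 0 := fun h0 => hc (IsFractionRing.injective A K (h0.trans (map_zero _).symm))
  have hcL : algebraMap A L c ≠ 0 := by
    rw [IsScalarTower.algebraMap_apply A K L]
    exact fun h0 => hcK ((algebraMap K L).injective (h0.trans (map_zero _).symm))
  let w : L := (x : L) / algebraMap A L c
  suffices hw : IsIntegral A w by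
    refine ⟨⟨w, hw⟩, Subtype.ext ?_⟩
    rw [SetLike.val_smul, Algebra.smul_def, mul_div_cancel₀ _ hcL]
  have hloc : ∀ (p : Ideal A) [p.IsPrime], p.height ≤ 1 → ∃ s ∉ p, IsIntegral A (s • w) := by
    intro p _ hp
    haveI := isReflexive_localized_of_height_le_one (M := ↥(integralClosure A L)) p hp
    obtain ⟨s, hs, z, hz⟩ := exists_notMem_of_isReflexive_localized p hc hx
    refine ⟨s, hs, ?_⟩
    have h1 : c • (z : L) = s • (x : L) := congrArg Subtype.val hz
    rw [Algebra.smul_def, Algebra.smul_def] at h1
    have : s • w = (z : L) := by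
      rw [Algebra.smul_def, ← mul_div_assoc, ← h1, mul_div_cancel_left₀ _ hcL]
    rw [this]
    exact z.2
  have hKint : IsIntegral K w := Algebra.IsIntegral.isIntegral w
  have hcoeff : ∀ i, (minpoly K w).coeff i ∈ Set.range (algebraMap A K) := by
    intro i
    obtain ⟨a, b, hb, hab⟩ := IsFractionRing.div_surjective (A := A) ((minpoly K w).coeff i)
    have hbreg : IsSMulRegular A b := fun u v h => mul_left_cancel₀ (nonZeroDivisors.ne_zero hb) h
    have hbK : algebraMap A K b ≠ 0 := IsLocalization.to_map_ne_zero_of_mem_nonZeroDivisors _ le_rfl hb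
    suffices hmem : a ∈ Ideal.span ({b} : Set A) by
      obtain ⟨d, rfl⟩ := Ideal.mem_span_singleton.1 hmem
      exact ⟨d, by rw [← hab, map_mul, mul_div_cancel_left₀ _ hbK]⟩
    refine CAlgSerre.mem_span_of_codim_one normal_S2 hbreg ?_
    intro q _ hq
    obtain ⟨s, hs, hint⟩ := hloc q hq
    haveI : IsIntegrallyClosed (Localization.AtPrime q) :=
      isIntegrallyClosed_of_isLocalization _ q.primeCompl q.primeCompl_le_nonZeroDivisors
    letI : Algebra (Localization.AtPrime q) K :=
      (IsLocalization.lift (M := q.primeCompl) (g := algebraMap A K) fun u =>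
        (isUnit_iff_ne_zero.2 fun h0 => u.2 (by
          rw [IsFractionRing.injective A K (h0.trans (map_zero _).symm)]; exact zero_mem _))).toAlgebra
    haveI : IsScalarTower A (Localization.AtPrime q) K :=
      IsScalarTower.of_algebraMap_eq fun a => (IsLocalization.lift_eq _ a).symm
    haveI : IsFractionRing (Localization.AtPrime q) K :=
      IsFractionRing.isFractionRing_of_isDomain_of_isLocalization q.primeCompl _ _
    letI : Algebra (Localization.AtPrime q) L :=
      ((algebraMap K L).comp (algebraMap (Localization.AtPrime q) K)).toAlgebra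
    haveI : IsScalarTower (Localization.AtPrime q) K L := IsScalarTower.of_algebraMap_eq fun _ => rfl
    haveI : IsScalarTower A (Localization.AtPrime q) L := IsScalarTower.of_algebraMap_eq fun a => by
      rw [IsScalarTower.algebraMap_apply (Localization.AtPrime q) K L, ← IsScalarTower.algebraMap_apply A (Localization.AtPrime q) K,
        ← IsScalarTower.algebraMap_apply A K L]
    have hint' : IsIntegral (Localization.AtPrime q) w := by
      have h1 : IsIntegral (Localization.AtPrime q) (s • w) := hint.tower_top
      have hu := IsLocalization.map_units (Localization.AtPrime q) (⟨s, hs⟩ : q.primeCompl)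
      have h2 : w = (↑hu.unit⁻¹ : Localization.AtPrime q) • (s • w) := by
        rw [← algebraMap_smul (Localization.AtPrime q) s w, smul_smul, IsUnit.val_inv_mul, one_smul]
      rw [h2]
      exact h1.smul _
    have hmin := minpoly.isIntegrallyClosed_eq_field_fractions K L hint'
    have hci : algebraMap (Localization.AtPrime q) K ((minpoly (Localization.AtPrime q) w).coeff i) =
        algebraMap A K a / algebraMap A K b := by
      rw [Algebra.algebraMap_self_apply] at hmin
      rw [hab, hmin, Polynomial.coeff_map]
    obtain ⟨r, t, ht⟩ := IsLocalization.exists_mk'_eq q.primeCompl ((minpoly (Localization.AtPrime q) w).coeff i)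
    rw [← ht, eq_div_iff hbK] at hci
    refine ⟨t, t.2, Ideal.mem_span_singleton.2 ⟨r, IsFractionRing.injective A K ?_⟩⟩
    have h3 := congrArg (algebraMap (Localization.AtPrime q) K) (IsLocalization.mk'_spec (Localization.AtPrime q) r t)
    rw [map_mul, ← IsScalarTower.algebraMap_apply, ← IsScalarTower.algebraMap_apply] at h3
    rw [map_mul, map_mul, ← h3, ← hci]
    ring
  obtain ⟨Q, hQ, -, hQm⟩ := Polynomial.lifts_and_degree_eq_and_monic
    ((Polynomial.lifts_iff_coeff_lifts _).2 hcoeff) (minpoly.monic hKint)
  refine ⟨Q, hQm, ?_⟩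
  rw [IsScalarTower.algebraMap_eq A K L, ← Polynomial.eval₂_map, hQ]
  exact minpoly.aeval K w

end Groth.Agent.CAlgReflexive
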